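import Groth.Agent.AssSchLib.LengthIneq
import Mathlib

/-!
# The sum of the lengths at the top-dimensional primes is bounded by the length modulo parameters
-/

set_option autoImplicit false
set_option linter.style.haveILetI false

universe u

open Groth.Agent.AssSchLib

namespace Groth.Agent.TopPrimes

variable {R : Type u} [CommRing R]

/-- dimension of the zero locus -/
noncomputable def dimV (J : Ideal R) : WithBot ℕ∞ := ringKrullDim (R ⧸ J)

lemma dimV_def (J : Ideal R) : dimV J = Order.krullDim (PrimeSpectrum.zeroLocus (R := R) (J : Set R)) :=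
  ringKrullDim_quotient J

lemma exists_minimal_of_le_dimV {J : Ideal R} {d : ℕ} (h : (d : WithBot ℕ∞) ≤ dimV J) :
    ∃ q ∈ J.minimalPrimes, (d : WithBot ℕ∞) ≤ dimV q := by
  rw [dimV_def, Order.le_krullDim_iff] at h
  obtain ⟨l, hl⟩ := h
  have hJ : J ≤ (l.head : PrimeSpectrum R).asIdeal := l.head.2
  obtain ⟨q, hq, hle⟩ := Ideal.exists_minimalPrimes_le hJ
  refine ⟨q, hq, ?_⟩
  rw [dimV_def, Order.le_krullDim_iff]
  have hmem : ∀ i, ((l i : _) : PrimeSpectrum R) ∈ PrimeSpectrum.zeroLocus (q : Set R) := fun i =>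
    hle.trans (PrimeSpectrum.asIdeal_le_asIdeal _ _ |>.2 (LTSeries.head_le l i))
  exact ⟨⟨l.length, fun i => ⟨_, hmem i⟩, fun i => l.step i⟩, hl⟩

lemma dimV_add_one_le {q' q : Ideal R} [q'.IsPrime] (hlt : q' < q) {d : ℕ} (h : (d : WithBot ℕ∞) ≤ dimV q) :
    ((d + 1 : ℕ) : WithBot ℕ∞) ≤ dimV q' := by
  rw [dimV_def, Order.le_krullDim_iff] at h ⊢
  obtain ⟨l, hl⟩ := h
  have hsub : PrimeSpectrum.zeroLocus (q : Set R) ⊆ PrimeSpectrum.zeroLocus (q' : Set R) :=
    PrimeSpectrum.zeroLocus_anti_mono hlt.le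
  refine ⟨(l.map (Set.inclusion hsub) fun _ _ h => h).cons ⟨⟨q', inferInstance⟩, le_rfl (a := q')⟩ ?_, ?_⟩
  · exact show q' < (l.head : PrimeSpectrum R).asIdeal from lt_of_lt_of_le hlt l.head.2
  · rw [RelSeries.cons_length]; exact congrArg (· + 1) hl

lemma dimV_le_succ [IsNoetherianRing R] [IsLocalRing R] (p : Ideal R) [p.IsPrime] {x : R}
    (hx : x ∈ IsLocalRing.maximalIdeal R) : dimV p ≤ dimV (p ⊔ Ideal.span {x}) + 1 := by
  have : IsLocalRing (R ⧸ p) := IsLocalRing.of_surjective' (Ideal.Quotient.mk p) Ideal.Quotient.mk_surjective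
  have hx' : ((({Ideal.Quotient.mk p x} : Finset (R ⧸ p))) : Set (R ⧸ p)) ⊆ Ring.jacobson (R ⧸ p) := by
    intro y hy
    rw [Finset.coe_singleton, Set.mem_singleton_iff] at hy
    subst hy
    rw [IsLocalRing.ringJacobson_eq_maximalIdeal]
    intro hu
    have : IsLocalHom (Ideal.Quotient.mk p) := IsLocalHom.of_surjective _ Ideal.Quotient.mk_surjective
    exact hx (IsUnit.of_map (Ideal.Quotient.mk p) x hu)
  have h := ringKrullDim_le_ringKrullDim_quotient_add_card {Ideal.Quotient.mk p x} hx'
  rw [Finset.coe_singleton, Finset.card_singleton, Nat.cast_one] at h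
  refine h.trans_eq ?_
  congr 1
  refine ringKrullDim_eq_of_ringEquiv ?_
  refine (Ideal.quotEquivOfEq ?_).trans (DoubleQuot.quotQuotEquivQuotSup p (Ideal.span {x}))
  rw [Ideal.map_span, Set.image_singleton]

section Double
variable (q p : Ideal R) [q.IsPrime] [p.IsPrime] (M : Type u) [AddCommGroup M] [Module R M]

/-- lengths do not change under a preliminary localisation -/
theorem L_localized (hpq : p ≤ q) (P : Ideal (Localization.AtPrime q)) [P.IsPrime]
    (hP : P.under R = p) :
    LengthIneq.L P (LocalizedModule q.primeCompl M) = LengthIneq.L p M := by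
  let B := Localization.AtPrime q
  let Bp := Localization.AtPrime P
  let Mq := LocalizedModule q.primeCompl M
  let T := LocalizedModule P.primeCompl Mq
  let f1 := LocalizedModule.mkLinearMap q.primeCompl M
  let f2 := (LocalizedModule.mkLinearMap P.primeCompl Mq).restrictScalars R
  have hmem : ∀ r : R, r ∉ p → algebraMap R B r ∈ P.primeCompl := fun r hr hm => hr (by rw [← hP]; exact hm)
  have hq : ∀ s : q.primeCompl, (s : R) ∉ p := fun s hs => s.2 (hpq hs)
  have hsm : ∀ (r : R) (z : T), r • z = algebraMap B Bp (algebraMap R B r) • z := fun r z => by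
    rw [algebraMap_smul, algebraMap_smul]
  have hloc : IsLocalizedModule p.primeCompl (f2 ∘ₗ f1) :=
    { map_units := fun s => by
        rw [Module.End.isUnit_iff]
        have hu : IsUnit (algebraMap B Bp (algebraMap R B s)) :=
          IsLocalization.map_units Bp (⟨_, hmem s s.2⟩ : P.primeCompl)
        have e : (fun z : T => (s : R) • z) = fun z => algebraMap B Bp (algebraMap R B s) • z := funext (hsm s)
        show Function.Bijective fun z : T => (s : R) • z
        rw [e]
        exact MulAction.bijective (hu.unit)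
      surj := fun z => by
        induction z using LocalizedModule.induction_on with
        | _ w b =>
          induction w using LocalizedModule.induction_on with
          | _ m u =>
            obtain ⟨⟨r, s⟩, hb⟩ := IsLocalization.surj q.primeCompl (b : B)
            have hr : r ∉ p := fun hr => b.2 (by
              have : algebraMap R B r ∈ P := by rw [← Ideal.mem_comap]; exact hP.ge hr
              rw [← hb] at this
              exact (‹P.IsPrime›.mem_or_mem this).resolve_right (hmem s (hq s)))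
            refine ⟨⟨(s : R) • m, ⟨r, hr⟩ * ⟨u, hq u⟩⟩, ?_⟩
            show ((r * u : R)) • LocalizedModule.mk (LocalizedModule.mk m u) b = _
            rw [mul_smul, ← algebraMap_smul B r, ← algebraMap_smul B (u : R), LocalizedModule.smul'_mk,
              LocalizedModule.smul'_mk, ← hb, algebraMap_smul B (u : R), LocalizedModule.smul'_mk,
              mul_smul, algebraMap_smul B (s : R), LocalizedModule.smul'_mk, smul_comm (s : R) (u : R)]
            have c1 : LocalizedModule.mk ((u : R) • (s : R) • m) u = LocalizedModule.mk ((s : R) • m) (1 : q.primeCompl) :=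
              LocalizedModule.mk_eq.2 ⟨1, by simp [Submonoid.smul_def]⟩
            rw [c1]
            exact LocalizedModule.mk_eq.2 ⟨1, by simp [Submonoid.smul_def, f1]; exact congrArg _ (LocalizedModule.smul'_mk _ _ _).symm⟩
      exists_of_eq := fun {x y} h => by
        obtain ⟨c, hc⟩ := LocalizedModule.mk_eq.1 h
        simp only [one_smul, Submonoid.smul_def] at hc
        obtain ⟨⟨r, s⟩, hb⟩ := IsLocalization.surj q.primeCompl (c : B)
        have hr : r ∉ p := fun hr => c.2 (by
          have : algebraMap R B r ∈ P := by rw [← Ideal.mem_comap]; exact hP.ge hr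
          rw [← hb] at this
          exact (‹P.IsPrime›.mem_or_mem this).resolve_right (hmem s (hq s)))
        have h2 : f1 (r • x) = f1 (r • y) := by
          rw [map_smul, map_smul, ← algebraMap_smul B r, ← algebraMap_smul B r (f1 y), ← hb, mul_comm,
            mul_smul, mul_smul]
          exact congrArg _ hc
        obtain ⟨t, ht⟩ := (IsLocalizedModule.eq_iff_exists q.primeCompl f1).1 h2
        refine ⟨⟨t, hq t⟩ * ⟨r, hr⟩, ?_⟩
        simpa [mul_smul, Submonoid.smul_def] using ht }
  let φ : Localization.AtPrime p →+* Bp := IsLocalization.lift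
    (g := (algebraMap B Bp).comp (algebraMap R B))
    (fun s : p.primeCompl => IsLocalization.map_units Bp (⟨_, hmem s s.2⟩ : P.primeCompl))
  have hφ : ∀ r, φ (algebraMap R _ r) = algebraMap B Bp (algebraMap R B r) := IsLocalization.lift_eq _
  have hφs : Function.Surjective φ := fun z => by
    obtain ⟨⟨b, c⟩, hz⟩ := IsLocalization.surj P.primeCompl z
    obtain ⟨⟨r, s⟩, hb⟩ := IsLocalization.surj q.primeCompl b
    obtain ⟨⟨r', s'⟩, hc⟩ := IsLocalization.surj q.primeCompl (c : B)
    have hr' : r' ∉ p := fun hr => c.2 (by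
      have : algebraMap R B r' ∈ P := by rw [← Ideal.mem_comap]; exact hP.ge hr
      rw [← hc] at this
      exact (‹P.IsPrime›.mem_or_mem this).resolve_right (hmem s' (hq s')))
    let a := IsLocalization.mk' (Localization.AtPrime p) (r * s') (⟨s, hq s⟩ * ⟨r', hr'⟩ : p.primeCompl)
    refine ⟨a, ?_⟩
    have ha : a * algebraMap R _ (s * r') = algebraMap R _ (r * s') := IsLocalization.mk'_spec _ _ _
    have ha' := congrArg φ ha
    rw [map_mul, hφ, hφ] at ha'
    have hu : IsUnit (algebraMap B Bp (algebraMap R B (s * r'))) :=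
      IsLocalization.map_units Bp (⟨_, hmem _ fun h => (‹p.IsPrime›.mem_or_mem h).elim (hq s) hr'⟩ : P.primeCompl)
    apply hu.mul_left_injective
    show φ a * _ = z * _
    rw [ha']
    simp only [map_mul]
    rw [← hb, ← hc, map_mul, map_mul, ← hz]
    ring
  letI : Algebra (Localization.AtPrime p) Bp := φ.toAlgebra
  letI : Module (Localization.AtPrime p) T := Module.compHom T φ
  have : IsScalarTower (Localization.AtPrime p) Bp T := ⟨fun a b z => mul_smul (φ a) b z⟩
  have : IsScalarTower R (Localization.AtPrime p) T := ⟨fun r a z => by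
    show φ (r • a) • z = r • φ a • z
    rw [Algebra.smul_def, map_mul, hφ, mul_smul, hsm]⟩
  let e : LocalizedModule p.primeCompl M ≃ₗ[R] T := IsLocalizedModule.iso p.primeCompl (f2 ∘ₗ f1)
  show Module.length Bp T = Module.length (Localization.AtPrime p) (LocalizedModule p.primeCompl M)
  rw [← Module.length_eq_of_surjective (R := Bp) (S := Localization.AtPrime p) (M := T) hφs]
  exact (e.extendScalarsOfIsLocalization p.primeCompl (Localization.AtPrime p)).length_eq.symm

end Double

variable [IsNoetherianRing R] [IsLocalRing R]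

/-- the one-dimensional step at a prime `q` -/
theorem sum_L_le_L {I : Ideal R} {x : R} (q : Ideal R) [q.IsPrime] (hq : q ∈ (I ⊔ Ideal.span {x}).minimalPrimes)
    (S : Finset (Ideal R)) (hS : ∀ p ∈ S, p ∈ I.minimalPrimes ∧ p ≤ q ∧ x ∉ p)
    (hfin : LengthIneq.L q (R ⧸ (I ⊔ Ideal.span {x})) ≠ ⊤) :
    ∑ p ∈ S.attach, @LengthIneq.L R _ p.1 (hS _ p.2).1.1.1 (R ⧸ I) _ _ ≤
      LengthIneq.L q (R ⧸ (I ⊔ Ideal.span {x})) := by
  classical
  let B := Localization.AtPrime q
  let M := LocalizedModule q.primeCompl (R ⧸ I)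
  let t := algebraMap R B x
  have hxq : x ∈ q := hq.1.2 (Ideal.mem_sup_right (Ideal.mem_span_singleton_self x))
  have ht : t ∈ IsLocalRing.maximalIdeal B := by
    rw [← Localization.AtPrime.map_eq_maximalIdeal]; exact Ideal.mem_map_of_mem _ hxq
  -- `M / t M` is the localisation of the quotient
  have hIle : I ≤ I ⊔ Ideal.span {x} := le_sup_left
  let π := LocalizedModule.map q.primeCompl (Submodule.factor hIle)
  have hπ : Function.Surjective π := LocalizedModule.map_surjective _ _ (Submodule.factor_surjective hIle)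
  have hker : LinearMap.ker π = Ideal.span {t} • (⊤ : Submodule B M) := by
    have hex : Function.Exact (LinearMap.lsmul R (R ⧸ I) x) (Submodule.factor hIle) := fun y => by
      obtain ⟨y, rfl⟩ := Submodule.Quotient.mk_surjective _ y
      show (Submodule.Quotient.mk y : R ⧸ (I ⊔ Ideal.span {x})) = 0 ↔ _
      rw [Submodule.Quotient.mk_eq_zero, Submodule.mem_sup]
      constructor
      · rintro ⟨a, ha, b, hb, rfl⟩
        obtain ⟨c, rfl⟩ := Ideal.mem_span_singleton.1 hb
        refine ⟨Submodule.Quotient.mk c, ?_⟩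
        rw [LinearMap.lsmul_apply, ← Submodule.Quotient.mk_smul, Submodule.Quotient.eq, smul_eq_mul]
        simpa using I.neg_mem ha
      · rintro ⟨z, hz⟩
        obtain ⟨z, rfl⟩ := Submodule.Quotient.mk_surjective _ z
        rw [LinearMap.lsmul_apply, ← Submodule.Quotient.mk_smul, Submodule.Quotient.eq, smul_eq_mul] at hz
        exact ⟨_, I.neg_mem hz, x * z, Ideal.mem_span_singleton.2 (dvd_mul_right x z), by ring⟩
    ext z
    rw [LengthIneq.mem_span_smul_top, LinearMap.mem_ker]
    refine ((LocalizedModule.map_exact q.primeCompl _ _ hex) z).trans ?_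
    have key : ∀ w : M, LocalizedModule.map q.primeCompl (LinearMap.lsmul R (R ⧸ I) x) w = t • w := fun w => by
      induction w using LocalizedModule.induction_on with
      | _ m s =>
        rw [LocalizedModule.map_mk, algebraMap_smul, LocalizedModule.smul'_mk]
        rfl
    exact exists_congr fun w => by rw [← key w]; exact Iff.rfl
  have he : LengthIneq.e t M = LengthIneq.L q (R ⧸ (I ⊔ Ideal.span {x})) :=
    ((Submodule.quotEquivOfEq _ _ hker.symm).trans (π.quotKerEquivOfSurjective hπ)).length_eq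
  let ι := {p : Ideal R // p ∈ I.minimalPrimes ∧ p ≤ q ∧ x ∉ p}
  have : Finite ι := ((I.finite_minimalPrimes_of_isNoetherianRing R).subset fun p hp => hp.1 :
    {p : Ideal R | p ∈ I.minimalPrimes ∧ p ≤ q ∧ x ∉ p}.Finite).to_subtype
  letI := Fintype.ofFinite ι
  have hpr : ∀ i : ι, i.1.IsPrime := fun i => i.2.1.1.1
  let P : ι → Ideal B := fun i => i.1.map (algebraMap R B)
  have hd : ∀ i : ι, Disjoint (q.primeCompl : Set R) (i.1 : Set R) := fun i =>
    Set.disjoint_left.2 fun a ha h => ha (i.2.2.1 h)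
  have hP : ∀ i, (P i).IsPrime := fun i =>
    IsLocalization.isPrime_of_isPrime_disjoint q.primeCompl B _ (hpr i) (hd i)
  have hPc : ∀ i, (P i).under R = i.1 := fun i =>
    IsLocalization.under_map_of_isPrime_disjoint q.primeCompl B (hpr i) (hd i)
  have hann : ∀ P' : Ideal B, P'.IsPrime → Module.annihilator B M ≤ P' → I ≤ P'.under R := fun P' _ h a ha => by
    refine h (Module.mem_annihilator.2 fun w => ?_)
    induction w using LocalizedModule.induction_on with
    | _ m s =>
      obtain ⟨m, rfl⟩ := Submodule.Quotient.mk_surjective _ m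
      rw [algebraMap_smul, LocalizedModule.smul'_mk, ← Submodule.Quotient.mk_smul, smul_eq_mul,
        (Submodule.Quotient.mk_eq_zero I).2 (I.mul_mem_right m ha), LocalizedModule.zero_mk]
  have hmain := (LengthIneq.main (t := t) ht P (hP := hP) (fun i j h => Subtype.ext (by
      have h' : i.1 ≤ j.1 := by rw [← hPc i, ← hPc j]; exact Ideal.comap_mono h
      exact le_antisymm h' (j.2.1.2 ⟨hpr i, i.2.1.1.2⟩ h'))) M
    (fun i _ h => i.2.2.2 (by rw [← hPc i]; exact h))
    (fun P' hP' h htP' => by
      have hpI := hann P' hP' h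
      obtain ⟨p0, hp0, hle⟩ := Ideal.exists_minimalPrimes_le hpI
      have hxp : x ∉ P'.under R := htP'
      have hp0q : p0 ≤ q := hle.trans fun a ha => by
        by_contra haq
        exact hP'.ne_top (Ideal.eq_top_of_isUnit_mem _ ha (IsLocalization.map_units B (⟨a, haq⟩ : q.primeCompl)))
      let i : ι := ⟨p0, hp0, hp0q, fun hx => hxp (hle hx)⟩
      have := hP i
      refine ⟨i, LengthIneq.eq_of_le_of_notMem ht M (by rwa [he]) (q := P i) (p := P') ?_ ?_ htP'⟩
      · intro b hb
        obtain ⟨⟨r, s⟩, hrs⟩ := IsLocalization.surj q.primeCompl b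
        have h1 : algebraMap R B r • LocalizedModule.mk (Submodule.Quotient.mk (1 : R) : R ⧸ I) (1 : q.primeCompl) = 0 := by
          rw [← hrs, mul_comm, mul_smul, Module.mem_annihilator.1 hb, smul_zero]
        rw [algebraMap_smul, LocalizedModule.smul'_mk, ← Submodule.Quotient.mk_smul, ← LocalizedModule.zero_mk (1 : q.primeCompl),
          LocalizedModule.mk_eq] at h1
        obtain ⟨u, hu⟩ := h1
        simp only [Submonoid.smul_def, Submonoid.coe_one, one_smul, smul_zero, ← Submodule.Quotient.mk_smul,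
          Submodule.Quotient.mk_eq_zero, smul_eq_mul, mul_one] at hu
        have hur := hp0.1.2 hu
        have hr : r ∈ p0 := ((hpr i).mem_or_mem hur).resolve_left fun hu' => u.2 (hp0q hu')
        refine ((hP i).mem_or_mem (show b * algebraMap R B s ∈ P i from ?_)).resolve_right fun hs => ?_
        · rw [hrs]; exact Ideal.mem_map_of_mem _ hr
        · exact s.2 (hp0q ((hPc i).le hs))
      · exact Ideal.map_le_iff_le_comap.2 hle)
    (by rwa [he])).1
  rw [he] at hmain
  refine le_trans ?_ hmain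
  let emb : {p // p ∈ S} ↪ ι := ⟨fun p => ⟨p.1, hS _ p.2⟩, fun a b h => Subtype.ext (congrArg (fun z : ι => z.1) h)⟩
  calc ∑ p ∈ S.attach, @LengthIneq.L R _ p.1 (hS _ p.2).1.1.1 (R ⧸ I) _ _
      = ∑ i ∈ S.attach.map emb, @LengthIneq.L B _ (P i) (hP i) M _ _ := by
        rw [Finset.sum_map]
        refine Finset.sum_congr rfl fun p _ => ?_
        have := hP (emb p)
        exact (@L_localized R _ q p.1 _ (hS _ p.2).1.1.1 (R ⧸ I) _ _ (hS _ p.2).2.1 (P (emb p)) _ (hPc (emb p))).symm
    _ ≤ ∑ i, @LengthIneq.L B _ (P i) (hP i) M _ _ :=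
        Finset.sum_le_sum_of_subset_of_nonneg (Finset.subset_univ _) fun _ _ _ => zero_le

open IsLocalRing in
/-- the bound -/
theorem sum_le : ∀ (d : ℕ) (I : Ideal R) (g : Fin d → R), (∀ i, g i ∈ maximalIdeal R) →
    maximalIdeal R ≤ (I ⊔ Ideal.span (Set.range g)).radical →
    (∀ p : Ideal R, p.IsPrime → I ≤ p → dimV p ≤ d) ∧
    ∀ T : Finset (Ideal R), (hT : ∀ p ∈ T, p ∈ I.minimalPrimes ∧ (d : WithBot ℕ∞) ≤ dimV p) →
      ∑ p ∈ T.attach, @LengthIneq.L R _ p.1 (hT _ p.2).1.1.1 (R ⧸ I) _ _ ≤
        Module.length R (R ⧸ (I ⊔ Ideal.span (Set.range g))) := by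
  classical
  intro d
  induction d with
  | zero =>
    intro I g _ hm
    rw [Set.range_eq_empty g, Ideal.span_empty, sup_bot_eq] at hm ⊢
    have hall : ∀ p : Ideal R, p.IsPrime → I ≤ p → p = maximalIdeal R := fun p hp hI =>
      le_antisymm (IsLocalRing.le_maximalIdeal hp.ne_top) (hm.trans (hp.radical_le_iff.2 hI))
    refine ⟨fun p hp hI => ?_, fun T hT => ?_⟩
    · rw [hall p hp hI]
      letI := Ideal.Quotient.field (maximalIdeal R)
      exact (ringKrullDim_eq_zero_of_field (R ⧸ maximalIdeal R)).le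
    · rcases T.eq_empty_or_nonempty with rfl | ⟨p, hp⟩
      · simp
      have hTm : T.attach = {⟨p, hp⟩} := by
        ext z
        simp only [Finset.mem_attach, Finset.mem_singleton, true_iff]
        exact Subtype.ext ((hall _ (hT _ z.2).1.1.1 (hT _ z.2).1.1.2).trans (hall _ (hT _ hp).1.1.1 (hT _ hp).1.1.2).symm)
      rw [hTm, Finset.sum_singleton]
      have := (hT _ hp).1.1.1
      have hpm := hall p this (hT _ hp).1.1.2
      have hu : ∀ s : p.primeCompl, IsUnit (s : R) := fun s => by
        by_contra hs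
        exact s.2 (hpm.ge hs)
      have hsurj : Function.Surjective (algebraMap R (Localization.AtPrime p)) := fun z => by
        obtain ⟨⟨r, s⟩, hz⟩ := IsLocalization.surj p.primeCompl z
        refine ⟨r * ((hu s).unit⁻¹ : Rˣ), ?_⟩
        rw [map_mul, ← hz, mul_assoc, ← map_mul, IsUnit.mul_val_inv, map_one, mul_one]
      show Module.length (Localization.AtPrime p) (LocalizedModule p.primeCompl (R ⧸ I)) ≤ _
      rw [← Module.length_eq_of_surjective (R := Localization.AtPrime p) (S := R)
        (M := LocalizedModule p.primeCompl (R ⧸ I)) hsurj]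
      refine Module.length_le_of_surjective (LocalizedModule.mkLinearMap p.primeCompl (R ⧸ I)) fun z => ?_
      induction z using LocalizedModule.induction_on with
      | _ m s =>
        refine ⟨((hu s).unit⁻¹ : Rˣ) • m, ?_⟩
        rw [LocalizedModule.mkLinearMap_apply, LocalizedModule.mk_eq]
        refine ⟨1, ?_⟩
        simp [Submonoid.smul_def, Units.smul_def, ← mul_smul]
  | succ d ih =>
    intro I g hg hm
    let x := g 0
    let g' : Fin d → R := fun i => g i.succ
    let I' := I ⊔ Ideal.span {x}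
    have hspan : Ideal.span {x} ⊔ Ideal.span (Set.range g') = Ideal.span (Set.range g) := by
      rw [← Ideal.span_union, Fin.range_fin_succ, Set.singleton_union]
      rfl
    have hI' : I' ⊔ Ideal.span (Set.range g') = I ⊔ Ideal.span (Set.range g) := by
      rw [sup_assoc, hspan]
    obtain ⟨ihd, ihs⟩ := ih I' g' (fun i => hg _) (hI'.symm ▸ hm)
    have hxm : x ∈ maximalIdeal R := hg 0
    have hbd : ∀ J : Ideal R, I' ≤ J → ¬ ((d + 1 : ℕ) : WithBot ℕ∞) ≤ dimV J := fun J hJ h => by
      obtain ⟨q, hq, hdq⟩ := exists_minimal_of_le_dimV h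
      have := hdq.trans (ihd q hq.1.1 (hJ.trans hq.1.2))
      norm_cast at this
      omega
    have hbound : ∀ p : Ideal R, p.IsPrime → I ≤ p → dimV p ≤ (d + 1 : ℕ) := fun p hp hI => by
      refine (dimV_le_succ p hxm).trans ?_
      rw [Nat.cast_add, Nat.cast_one]
      gcongr
      by_contra hlt
      exact hbd (p ⊔ Ideal.span {x}) (sup_le_sup_right hI _) (by
        rw [Nat.cast_add, Nat.cast_one]
        exact ENat.WithBot.add_one_le_iff.2 (not_le.1 hlt))
    refine ⟨hbound, fun T hT => ?_⟩
    by_cases htop : Module.length R (R ⧸ (I ⊔ Ideal.span (Set.range g))) = ⊤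
    · rw [htop]; exact le_top
    have hxp : ∀ p ∈ T, x ∉ p := fun p hp hx =>
      hbd p (sup_le (hT p hp).1.1.2 ((Ideal.span_singleton_le_iff_mem _).2 hx)) (hT p hp).2
    have hq : ∀ p ∈ T, ∃ q, q ∈ I'.minimalPrimes ∧ (d : WithBot ℕ∞) ≤ dimV q ∧ p ≤ q := fun p hp => by
      have := (hT p hp).1.1.1
      have h1 := (hT p hp).2.trans (dimV_le_succ p hxm)
      rw [Nat.cast_add, Nat.cast_one] at h1
      have h2 : (d : WithBot ℕ∞) ≤ dimV (p ⊔ Ideal.span {x}) :=
        (ENat.WithBot.add_le_add_natCast_right_iff (c := 1)).1 (by simpa using h1)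
      obtain ⟨q, hq, hdq⟩ := exists_minimal_of_le_dimV h2
      have hIq : I' ≤ q := (sup_le_sup_right (hT p hp).1.1.2 _).trans hq.1.2
      refine ⟨q, ⟨⟨hq.1.1, hIq⟩, fun q' hq' hle => ?_⟩, hdq, le_sup_left.trans hq.1.2⟩
      by_contra hne
      have := hq'.1
      exact hbd q' hq'.2 (dimV_add_one_le (lt_of_le_of_ne hle fun e => hne e.ge) hdq)
    choose q hqmin hqd hpq using hq
    let T' := T.attach.image fun p => q p.1 p.2
    have hT' : ∀ Q ∈ T', Q ∈ I'.minimalPrimes ∧ (d : WithBot ℕ∞) ≤ dimV Q := fun Q hQ => by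
      obtain ⟨p, -, rfl⟩ := Finset.mem_image.1 hQ
      exact ⟨hqmin _ _, hqd _ _⟩
    have hle := ihs T' hT'
    rw [hI'] at hle
    refine le_trans ?_ hle
    have hne : ∀ Q : {Q // Q ∈ T'}, @LengthIneq.L R _ Q.1 (hT' _ Q.2).1.1.1 (R ⧸ I') _ _ ≠ ⊤ := fun Q hQ =>
      htop (top_le_iff.1 (hQ.ge.trans ((Finset.single_le_sum
        (f := fun P : {Q // Q ∈ T'} => @LengthIneq.L R _ P.1 (hT' _ P.2).1.1.1 (R ⧸ I') _ _)
        (fun _ _ => zero_le) (Finset.mem_attach _ Q)).trans hle)))
    let qq : {p // p ∈ T} → {Q // Q ∈ T'} := fun p =>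
      ⟨q p.1 p.2, Finset.mem_image.2 ⟨p, Finset.mem_attach _ _, rfl⟩⟩
    rw [← Finset.sum_fiberwise_of_maps_to (g := qq) (t := T'.attach) (fun p _ => Finset.mem_attach _ _)]
    refine Finset.sum_le_sum fun Q _ => ?_
    have := (hT' _ Q.2).1.1.1
    let S := (T.attach.filter fun p => qq p = Q).map (Function.Embedding.subtype _)
    have hS : ∀ p ∈ S, p ∈ I.minimalPrimes ∧ p ≤ Q.1 ∧ x ∉ p := fun p hp => by
      obtain ⟨⟨p', hp'⟩, h, rfl⟩ := Finset.mem_map.1 hp
      have := (Finset.mem_filter.1 h).2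
      exact ⟨(hT p' hp').1, this ▸ hpq p' hp', hxp p' hp'⟩
    refine le_trans (le_of_eq ?_) (sum_L_le_L Q.1 (hT' _ Q.2).1 S hS (hne Q))
    refine Finset.sum_bij' (fun p hp => ⟨p.1, Finset.mem_map.2 ⟨p, hp, rfl⟩⟩)
      (fun z _ => ⟨z.1, by
        obtain ⟨⟨p', hp'⟩, -, h⟩ := Finset.mem_map.1 z.2
        exact h ▸ hp'⟩) (fun _ _ => Finset.mem_attach _ _) (fun z _ => ?_) (fun _ _ => rfl) (fun _ _ => rfl)
      (fun _ _ => rfl)
    obtain ⟨⟨p', hp'⟩, h, h'⟩ := Finset.mem_map.1 z.2
    have e : (⟨p', hp'⟩ : {p // p ∈ T}) = ⟨z.1, h' ▸ hp'⟩ := Subtype.ext h'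
    exact e ▸ h

end Groth.Agent.TopPrimes
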